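import Cfsg.Agent.H611.QF.SieveAll
import Cfsg.Agent.H48.OreFi.Frame
import Cfsg.Agent.H265.TF.Defs

/-!
# The sieve in `3.Fi24'` (helper611, for S2491, S2492; step R8 of the row `Fi24'`)

`p : L →* Fi24'` onto with central kernel of order 3. `Deg p DN' DX'` : the bounds of the degrees of the characters of `L` that
are not trivial on the kernel; `DegK DN DX` : the degrees of `Fi24'` (`H26.Ore.Fi24Deg`: `57477`, `125120`).

* `good_of` : the sieve with a numerical check;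
* `good_of_cent` : `57477`, `125120`, `45747`, `201825`: `|C(k)| ≤ 11000000` gives `Good p k`;
* `good_of_cent'` : `57477`, `125120`, `64584`, `201825`: `|C(k)| ≤ 14500000` gives `Good p k`.
-/

set_option autoImplicit false
set_option maxRecDepth 100000

namespace Cfsg.Agent.H611.QF

open Cfsg Cfsg.Agent.Characters Subgroup Cfsg.Agent.H265.TF

universe u

/-- the bounds of the degrees of `Fi24'` -/
def DegK (DN DX : ℕ) : Prop :=
  (∀ ψ : IrrCharacter Spor.Fi24', (ψ : Spor.Fi24' → ℂ) ≠ 1 →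
      (charDegree (ψ : Spor.Fi24' → ℂ) % 29 = 1 ∨ charDegree (ψ : Spor.Fi24' → ℂ) % 29 = 28) →
        DN ≤ charDegree (ψ : Spor.Fi24' → ℂ)) ∧
  (∀ ψ : IrrCharacter Spor.Fi24', (ψ : Spor.Fi24' → ℂ) ≠ 1 →
      (charDegree (ψ : Spor.Fi24' → ℂ) % 29 = 14 ∨ charDegree (ψ : Spor.Fi24' → ℂ) % 29 = 15) →
        DX ≤ charDegree (ψ : Spor.Fi24' → ℂ))

/-- the bounds of the degrees of the characters that are not trivial on the kernel -/
def DegL {L : Type u} [Group L] (π : L →* Spor.Fi24') (DN DX : ℕ) : Prop :=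
  (∀ χ : IrrCharacter L, (∃ z ∈ π.ker, (χ : L → ℂ) z ≠ (χ : L → ℂ) 1) →
      (charDegree (χ : L → ℂ) % 29 = 1 ∨ charDegree (χ : L → ℂ) % 29 = 28) → DN ≤ charDegree (χ : L → ℂ)) ∧
  (∀ χ : IrrCharacter L, (∃ z ∈ π.ker, (χ : L → ℂ) z ≠ (χ : L → ℂ) 1) →
      (charDegree (χ : L → ℂ) % 29 = 14 ∨ charDegree (χ : L → ℂ) % 29 = 15) → DX ≤ charDegree (χ : L → ℂ))

theorem DegL.mono {L : Type u} [Group L] {π : L →* Spor.Fi24'} {DN DX DN' DX' : ℕ} (h : DegL π DN DX) (h1 : DN' ≤ DN)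
    (h2 : DX' ≤ DX) : DegL π DN' DX' :=
  ⟨fun χ a b => h1.trans (h.1 χ a b), fun χ a b => h2.trans (h.2 χ a b)⟩

/-- **the sieve with a numerical check** -/
theorem good_of {L : Type u} [Group L] [Finite L] {π : L →* Spor.Fi24'} (hs : Function.Surjective π)
    (hc : π.ker ≤ center L) (hk : Nat.card π.ker = 3) {DN DX DN' DX' c : ℕ} (hK : DegK DN DX) (hL : DegL π DN' DX')
    (r r' : ℚ) (hpos : 0 < DN ∧ 0 < DX ∧ 0 < DN' ∧ 0 < DX' ∧ 0 ≤ r ∧ 0 ≤ r')
    (hr : ((13 : ℚ) / DN ^ 2 + 225 / (2 * DX ^ 2)) * c ≤ r ^ 2)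
    (hr' : ((14 : ℚ) / DN' ^ 2 + 225 / (2 * DX' ^ 2)) * c ≤ r' ^ 2) (hsum : r + 2 * r' < 1)
    (hnum : 63 * min DN' DX' + 2 * 64 * min DN DX < min DN DX * min DN' DX') {k : Spor.Fi24'}
    (hcard : Nat.card (centralizer ({k} : Set Spor.Fi24')) ≤ c) : Good π k := by
  rintro g rfl
  have := H48.OreFi.finite'
  have : IsSimpleGroup Spor.Fi24' := Cfsg.Agent.S1698.result.1
  obtain ⟨x, -, hx, hC, -⟩ := Cfsg.Agent.H30.IMFi24.exists_x
  obtain ⟨h1, h2, h3, h4, h5, h6⟩ := hpos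
  refine comm_all H48.OreFi.not_comm hs hc (p := 29) (by norm_num) Cfsg.Agent.R08.FiTwentyFour.card_commutator hx hC
    (by rw [hk]; norm_num) 14 2 141 (by decide +kernel) (DN := DN) (DX := DX) (DN' := DN') (DX' := DX') (c := c) (m := 3)
    hk.le hK.1 hK.2 hL.1 hL.2 hcard r r' ⟨h1, h2, h3, h4, by norm_num, by norm_num, h5, h6⟩ ?_ ?_ ?_ 63 64 ?_
  · refine le_trans (le_of_eq ?_) hr
    norm_num
  · refine le_trans (le_of_eq ?_) hr'
    norm_num
  · refine lt_of_le_of_lt (le_of_eq ?_) hsum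
    norm_num
  · exact ⟨by norm_num, by norm_num, hnum, by norm_num⟩

/-- **the sieve**: `45747`, `201825` -/
theorem good_of_cent {L : Type u} [Group L] [Finite L] {π : L →* Spor.Fi24'} (hs : Function.Surjective π)
    (hc : π.ker ≤ center L) (hk : Nat.card π.ker = 3) (hK : DegK 57477 125120) (hL : DegL π 45747 201825)
    {k : Spor.Fi24'} (hcard : Nat.card (centralizer ({k} : Set Spor.Fi24')) ≤ 11000000) : Good π k :=
  good_of hs hc hk hK hL (3498 / 10000) (3225 / 10000) (by norm_num) (by norm_num) (by norm_num) (by norm_num)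
    (by norm_num) hcard

/-- **the sieve**: `64584`, `201825` -/
theorem good_of_cent' {L : Type u} [Group L] [Finite L] {π : L →* Spor.Fi24'} (hs : Function.Surjective π)
    (hc : π.ker ≤ center L) (hk : Nat.card π.ker = 3) (hK : DegK 57477 125120) (hL : DegL π 64584 201825)
    {k : Spor.Fi24'} (hcard : Nat.card (centralizer ({k} : Set Spor.Fi24')) ≤ 14500000) : Good π k :=
  good_of hs hc hk hK hL (4016 / 10000) (2979 / 10000) (by norm_num) (by norm_num) (by norm_num) (by norm_num)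
    (by norm_num) hcard

end Cfsg.Agent.H611.QF
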