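import Cfsg.Agent.H611.QF.Row
import Cfsg.Agent.H265.TF.Six
import Cfsg.Agent.H834.R4.Main

/-!
# The row `Fi24'` of S2491, S2492: the class `3A` and the elements of order 3 are done (helper611)

* `rowB` : the row from the degree bounds, the 2-elements, the classes `3C`, `3E` times a 2-element, R5 and R7.
-/

set_option autoImplicit false
set_option maxRecDepth 100000

namespace Cfsg.Agent.H611.QF

open Cfsg Subgroup Cfsg.Agent.H51.Mult Cfsg.Agent.H777.Ore Cfsg.Agent.H265.TF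
open Cfsg.Agent.H52.ThreeFi24

/-- class `3A` times a 2-element -/
theorem good_zero {s t : Spor.Fi24'} {n : ℕ} (h : Cls 0 s) (ht : t ^ 2 ^ n = 1) (hst : Commute s t) :
    Good π3 (s * t) :=
  Cfsg.Agent.H834.R4.r4 pce.surj pce.cen card_ker_L3 tri_lk (conj_s0 h) ht hst

/-- **the row, without R4 (class `3A`) and R6** -/
theorem rowB (hL : DegL π3 45747 201825)
    (R2 : ∀ (g : Spor.Fi24') (n : ℕ), g ^ 2 ^ n = 1 → Good π3 g)
    (R2b : ∀ (s t : Spor.Fi24') (n : ℕ), orderOf s = 3 → (Cls 1 s ∨ Cls 4 s) → t ^ 2 ^ n = 1 → Commute s t →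
      Good π3 (s * t))
    (R7 : ∀ g : Spor.Fi24', orderOf g = 9 → Nat.card (centralizer ({g} : Set Spor.Fi24')) ≤ 11000000)
    (R5 : ∀ z s : Spor.Fi24', z ≠ 1 → z * z = 1 → orderOf s = 3 → Commute z s → ¬ Cls 0 s → ¬ Cls 1 s → ¬ Cls 4 s →
      Nat.card (centralizer ({z} : Set Spor.Fi24') ⊓ centralizer ({s} : Set Spor.Fi24') : Subgroup Spor.Fi24') ≤
        11000000) : H6.QO.RowA Spor.Fi24' := by
  refine rowA hL R2 (fun _ h => six h) R7 R5 fun s t n ho hc ht hst => ?_
  rcases hc with h | h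
  · exact good_zero h ht hst
  · exact R2b s t n ho h ht hst

end Cfsg.Agent.H611.QF
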