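import Cfsg.Agent.H48.OreFi.Frame
import Cfsg.Agent.H49.Four.ThreeInv
import Cfsg.Agent.H265.TF.Zeta
import Cfsg.Agent.S2055

/-!
# `3.Fi24'`: the frame of the row `Fi24'` (helper611, for S2491, S2492)

* `Cls i s` : `s` is conjugate in `Fi24` to `X i` or to its inverse (`H842.ThreeCl.X`, `H842.ThreeCl.all`);
* `cases` : the case split for a predicate `P` on `Fi24'` with a threshold `T` for the centralizer orders;
* `conj_s0` : `Cls 0 s` gives `g s g⁻¹ = s0` with `g` in `Fi24'`;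
* `rowA_of` : the row `Fi24'` from the explicit cover `L3`.
-/

set_option autoImplicit false
set_option maxRecDepth 100000

namespace Cfsg.Agent.H611.QF

open Cfsg Subgroup Cfsg.Agent.H51.Mult Cfsg.Agent.H777.Ore Cfsg.Agent.H265.TF
open Cfsg.Agent.H52.ThreeFi24
open Cfsg.Spor (Fi24)
open Cfsg.Agent.Fischer.Fi24Rep (gen word)
open Cfsg.Agent.Fischer.Fi24Final (sgn sgn_gen)
open Cfsg.Agent.R08.FiTwentyFour (mem_commutator_iff)
open Cfsg.Agent.Fischer.Fi24Spider (word_cons word_nil)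
open Cfsg.Agent.LThreeFi24.FiveConj (eqB eq_of_eqB)

/-- `s` is conjugate in `Fi24` to `X i` or to its inverse -/
def Cls (i : Fin 5) (s : Spor.Fi24') : Prop :=
  ∃ y : Fi24, y * (s : Fi24) * y⁻¹ = Cfsg.Agent.H842.ThreeCl.X i ∨ y * (s : Fi24) * y⁻¹ = (Cfsg.Agent.H842.ThreeCl.X i)⁻¹

/-- the elements of order 3 -/
theorem exists_cls {s : Spor.Fi24'} (h3 : s ^ 3 = 1) (h1 : s ≠ 1) : ∃ i : Fin 5, Cls i s := by
  obtain ⟨i, y, hy⟩ := Cfsg.Agent.H842.ThreeCl.all Cfsg.Agent.H49.Four.TEight.fgroup24' Cfsg.Agent.H49.Four.TEight.isT8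
    (y := (s : Fi24)) (congrArg Subtype.val h3) (fun h => h1 (Subtype.ext h))
  exact ⟨i, y, hy⟩

/-- **the case split** -/
theorem cases {P : Spor.Fi24' → Prop} {T : ℕ} (hT : 1814400 ≤ T)
    (hS : ∀ g : Spor.Fi24', Nat.card (centralizer ({g} : Set Spor.Fi24')) ≤ T → P g)
    (R2 : ∀ (g : Spor.Fi24') (n : ℕ), g ^ 2 ^ n = 1 → P g) (R6 : ∀ g : Spor.Fi24', g ^ 3 = 1 → P g)
    (R7 : ∀ g : Spor.Fi24', orderOf g = 9 → Nat.card (centralizer ({g} : Set Spor.Fi24')) ≤ T)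
    (R5 : ∀ z s : Spor.Fi24', z ≠ 1 → z * z = 1 → orderOf s = 3 → Commute z s → ¬ Cls 0 s → ¬ Cls 1 s → ¬ Cls 4 s →
      Nat.card (centralizer ({z} : Set Spor.Fi24') ⊓ centralizer ({s} : Set Spor.Fi24') : Subgroup Spor.Fi24') ≤ T)
    (R4 : ∀ (s t : Spor.Fi24') (n : ℕ), orderOf s = 3 → (Cls 0 s ∨ Cls 1 s ∨ Cls 4 s) → t ^ 2 ^ n = 1 → Commute s t →
      P (s * t)) (g : Spor.Fi24') : P g := by
  have := Cfsg.Agent.H48.OreFi.finite'
  have hn : orderOf g ≠ 0 := (orderOf_pos g).ne'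
  by_cases hr : ∃ r, r.Prime ∧ 5 ≤ r ∧ r ∣ orderOf g
  · obtain ⟨r, hr, h5, k, hk⟩ := hr
    have hk0 : k ≠ 0 := by
      rintro rfl
      exact hn (by rw [hk, mul_zero])
    refine hS g ((Cfsg.Agent.H48.OreFi.cent_pow_le g k).trans
      ((Cfsg.Agent.H48.OreFi.big_prime hr h5 ?_).trans hT))
    rw [orderOf_pow' g hk0, hk, Nat.gcd_eq_right (dvd_mul_left k r), Nat.mul_div_cancel _ (Nat.pos_of_ne_zero hk0)]
  push Not at hr
  by_cases h9 : 9 ∣ orderOf g
  · obtain ⟨k, hk⟩ := h9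
    have hk0 : k ≠ 0 := by
      rintro rfl
      exact hn (by rw [hk, mul_zero])
    refine hS g ((Cfsg.Agent.H48.OreFi.cent_pow_le g k).trans (R7 _ ?_))
    rw [orderOf_pow' g hk0, hk, Nat.gcd_eq_right (dvd_mul_left k 9), Nat.mul_div_cancel _ (Nat.pos_of_ne_zero hk0)]
  rcases Cfsg.Agent.H48.OreFi.two_three' hn hr with ⟨a, ha⟩ | h | ⟨b, hb, hk⟩ | h6
  · exact R2 g a (by rw [← ha, pow_orderOf_eq_one])
  · exact R6 g (by rw [← h, pow_orderOf_eq_one])
  · exact absurd (by rw [hk]; exact pow_dvd_pow 3 hb) h9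
  -- the order is `3 * 2 ^ a`
  obtain ⟨a, m, hm, hnm⟩ := Nat.exists_eq_pow_mul_and_not_dvd hn 2 (by norm_num)
  have h3m : 3 ∣ m := by
    have h1 : 3 ∣ 2 ^ a * m := by rw [← hnm]; exact (by norm_num : 3 ∣ 6).trans h6
    exact (Nat.Coprime.dvd_mul_left (Nat.Coprime.pow_right a (by norm_num))).1 h1
  have hm3 : m = 3 := by
    obtain ⟨q, rfl⟩ := h3m
    have hq : q = 1 := by
      by_contra hq1
      obtain ⟨r, hrp, hrq⟩ := Nat.exists_prime_and_dvd hq1
      have hrn : r ∣ orderOf g := by rw [hnm]; exact (hrq.trans (dvd_mul_left q 3)).trans (dvd_mul_left _ _)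
      have hr5 : r < 5 := by
        by_contra hcon
        exact hr r hrp (by omega) hrn
      have h23 : r = 2 ∨ r = 3 := by
        have := hrp.two_le
        interval_cases r
        · left; rfl
        · right; rfl
        · exact absurd hrp (by norm_num)
      rcases h23 with rfl | rfl
      · exact hm (hrq.trans (dvd_mul_left q 3))
      · apply h9
        rw [hnm]
        obtain ⟨c, rfl⟩ := hrq
        exact ⟨2 ^ a * c, by ring⟩
    rw [hq]
  rw [hm3] at hnm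
  -- the parts
  have ha1 : 1 ≤ a := by
    by_contra h0
    have h1 : a = 0 := by omega
    rw [h1] at hnm
    rw [hnm] at h6
    omega
  obtain ⟨u, hu⟩ : ∃ u : ℕ, 2 ^ a * u ≡ 1 [MOD 3] := by
    have h1 : Nat.Coprime (2 ^ a) 3 := Nat.Coprime.pow_left a (by norm_num)
    obtain ⟨u, -, hu⟩ := Nat.exists_mul_mod_eq_one_of_coprime h1 (by norm_num)
    exact ⟨u, by rw [Nat.ModEq, hu]⟩
  have hu3 : ¬ 3 ∣ u := by
    intro h
    have h1 : 2 ^ a * u ≡ 0 [MOD 3] := (Nat.modEq_zero_iff_dvd).2 (h.mul_left _)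
    have h2 := h1.symm.trans hu
    exact absurd h2 (by decide)
  set s := g ^ (2 ^ a * u) with hs
  have hs3 : s ^ 3 = 1 := by
    rw [hs, ← pow_mul, show 2 ^ a * u * 3 = (2 ^ a * 3) * u by ring, pow_mul, ← hnm, pow_orderOf_eq_one, one_pow]
  have hs1 : s ≠ 1 := by
    intro h
    have h1 : orderOf g ∣ 2 ^ a * u := orderOf_dvd_of_pow_eq_one h
    rw [hnm] at h1
    exact hu3 (Nat.dvd_of_mul_dvd_mul_left (by positivity) h1)
  have hso : orderOf s = 3 := by
    have : Fact (Nat.Prime 3) := ⟨Nat.prime_three⟩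
    exact orderOf_eq_prime hs3 hs1
  have hcs : Commute s g := by rw [hs]; exact (Commute.refl g).pow_left _
  by_cases hc : Cls 0 s ∨ Cls 1 s ∨ Cls 4 s
  · have ht : (s⁻¹ * g) ^ 2 ^ a = 1 := by
      rw [hcs.inv_left.mul_pow, inv_pow, hs, ← pow_mul]
      have h1 : g ^ (2 ^ a * u * 2 ^ a) = g ^ 2 ^ a := by
        rw [pow_eq_pow_iff_modEq, hnm]
        have h2 : 2 ^ a * (2 ^ a * u) ≡ 2 ^ a * 1 [MOD 2 ^ a * 3] := hu.mul_left' _
        rw [mul_one] at h2
        rwa [show 2 ^ a * u * 2 ^ a = 2 ^ a * (2 ^ a * u) by ring]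
      rw [h1, inv_mul_cancel]
    have h2 := R4 s (s⁻¹ * g) a hso hc ht ((Commute.refl s).inv_right.mul_right hcs)
    rwa [mul_inv_cancel_left] at h2
  · rw [not_or, not_or] at hc
    obtain ⟨h0, h1, h4⟩ := hc
    have hzo : orderOf (g ^ (3 * 2 ^ (a - 1))) = 2 := by
      have h2 : orderOf g = 2 * (3 * 2 ^ (a - 1)) := by
        rw [hnm]
        obtain ⟨b, rfl⟩ : ∃ b, a = b + 1 := ⟨a - 1, by omega⟩
        rw [Nat.add_sub_cancel]
        ring
      have h3 : 3 * 2 ^ (a - 1) ≠ 0 := by positivity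
      rw [orderOf_pow' g h3, Nat.gcd_eq_right ⟨2, by rw [h2]; ring⟩, h2, Nat.mul_div_cancel _ (Nat.pos_of_ne_zero h3)]
    refine hS g (le_trans (Subgroup.card_le_of_le (K := centralizer ({g ^ (3 * 2 ^ (a - 1))} : Set Spor.Fi24') ⊓
        centralizer ({s} : Set Spor.Fi24')) ?_) (R5 (g ^ (3 * 2 ^ (a - 1))) s ?_ ?_ hso ?_ h0 h1 h4))
    · intro y hy
      rw [mem_centralizer_singleton_iff] at hy
      refine ⟨mem_centralizer_singleton_iff.2 (Commute.pow_right (show Commute y g from hy) _).eq,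
        mem_centralizer_singleton_iff.2 ?_⟩
      rw [hs]
      exact (Commute.pow_right (show Commute y g from hy) _).eq
    · intro h
      rw [h, orderOf_one] at hzo
      omega
    · have h2 := pow_orderOf_eq_one (g ^ (3 * 2 ^ (a - 1)))
      rwa [hzo, pow_two] at h2
    · exact (hcs.pow_right _).symm

/-- an element of `Fi24` is in `Fi24'` up to a transposition -/
theorem mem_or (y : Fi24) : y ∈ commutator Fi24 ∨ ∀ x : Fi24.Gen, gen x * y ∈ commutator Fi24 := by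
  rcases Int.units_eq_one_or (sgn y) with h | h
  · exact Or.inl (mem_commutator_iff.2 h)
  · right
    intro x
    rw [mem_commutator_iff, map_mul, sgn_gen, h]
    norm_num

/-- **class `3A`** -/
theorem conj_s0 {s : Spor.Fi24'} (h : Cls 0 s) : ∃ g : Spor.Fi24', g * s * g⁻¹ = s0 := by
  have hsq : ∀ x : Fi24.Gen, gen x * gen x = 1 := fun x => Cfsg.Agent.Fischer.Fi24Final.gen_sq x
  have h1 : ∃ y : Fi24, y * (s : Fi24) * y⁻¹ = gen .l * gen .k := by
    obtain ⟨y, hy | hy⟩ := h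
    · exact ⟨y, hy⟩
    · have hy' : y * (s : Fi24) * y⁻¹ = (gen .l * gen .k)⁻¹ := hy
      refine ⟨gen .l * y, ?_⟩
      calc gen .l * y * (s : Fi24) * (gen .l * y)⁻¹ = gen .l * (y * (s : Fi24) * y⁻¹) * (gen .l)⁻¹ := by group
        _ = gen .l * (gen .l * gen .k)⁻¹ * (gen .l)⁻¹ := by rw [hy']
        _ = gen .l * (gen .k)⁻¹ * ((gen .l * gen .l))⁻¹ := by group
        _ = gen .l * gen .k := by
          rw [hsq, inv_one, mul_one, inv_eq_of_mul_eq_one_left (hsq .k)]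
  obtain ⟨y, hy⟩ := h1
  rcases mem_or y with hm | hm
  · exact ⟨⟨y, hm⟩, Subtype.ext (by
      show y * (s : Fi24) * y⁻¹ = word [.l, .k]
      rw [hy, word_cons, word_cons, word_nil, mul_one])⟩
  · refine ⟨⟨gen .c * y, hm .c⟩, Subtype.ext ?_⟩
    show gen .c * y * (s : Fi24) * (gen .c * y)⁻¹ = word [.l, .k]
    have h2 : word ([.c] ++ [.l, .k]) = word ([.l, .k] ++ [.c]) := eq_of_eqB (by decide +kernel)
    simp only [List.cons_append, List.nil_append, word_cons, word_nil, mul_one] at h2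
    rw [word_cons, word_cons, word_nil, mul_one]
    calc gen .c * y * (s : Fi24) * (gen .c * y)⁻¹ = gen .c * (y * (s : Fi24) * y⁻¹) * (gen .c)⁻¹ := by group
      _ = gen .c * (gen .l * gen .k) * (gen .c)⁻¹ := by rw [hy]
      _ = gen .l * gen .k := by rw [h2]; group

/-- **the row, from the explicit triple cover** -/
theorem rowA_of (h : ∀ k : Spor.Fi24', Good π3 k) : H6.QO.RowA Spor.Fi24' := by
  have h1 : Nat.card π3.ker = Nat.card (Multiplicative (ZMod 3)) := by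
    rw [card_ker_L3]; simp
  exact H6.QO.RowA.of_univ S2055.result pce h1 fun g => h (π3 g) g rfl

end Cfsg.Agent.H611.QF
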