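import Cfsg.Agent.H611.QF.RowC
import Cfsg.Agent.H29.TF.Into

/-!
# The row `Fi24'` of S2491, S2492 (helper611)

* `good_all` : every lift of every element of `Fi24'` to the cover is a commutator;
* `rowFi` : the row; `row_fi24` : the row for every group isomorphic to `Fi24'`.
-/

set_option autoImplicit false

namespace Cfsg.Agent.H611.QF

open Cfsg Subgroup Cfsg.Agent.H51.Mult Cfsg.Agent.H777.Ore Cfsg.Agent.H265.TF Cfsg.Agent.H52.ThreeFi24

universe u

theorem hOne (s t : Spor.Fi24') (n : ℕ) (hs : orderOf s = 3) (_ : Cls 1 s) (ht : t ^ 2 ^ n = 1) (hst : Commute s t) :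
    Good π3 (s * t) := Cfsg.Agent.H29.TF.good3 hs ht hst

/-- every element of `Fi24'` is good -/
theorem good_all (k : Spor.Fi24') : Good π3 k := all_good_of hOne k

/-- **the row `Fi24'`** -/
theorem rowFi : H6.QO.RowA Spor.Fi24' := rowC hOne

/-- **the row `Fi24'`, for every group isomorphic to `Fi24'`** -/
theorem row_fi24 {K : Type u} [Group K] (h : Spor.IsoFi24' K) : H6.QO.RowA K := rowC_iso hOne h

end Cfsg.Agent.H611.QF
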