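import Cfsg.Agent.H611.QF.Frame

/-!
# `3.Fi24'`: the frame with an arbitrary set of bad elements of order 3 (helper611, for S2491, S2492)

* `casesBad`, `cases3`.
-/

set_option autoImplicit false
set_option maxRecDepth 100000

namespace Cfsg.Agent.H611.QF

open Cfsg Subgroup
open Cfsg.Spor (Fi24)

/-- **the case split with an arbitrary set of bad elements of order 3** -/
theorem casesBad {P Bad : Spor.Fi24' → Prop} {T : ℕ} (hT : 1814400 ≤ T)
    (hS : ∀ g : Spor.Fi24', Nat.card (centralizer ({g} : Set Spor.Fi24')) ≤ T → P g)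
    (R2 : ∀ (g : Spor.Fi24') (n : ℕ), g ^ 2 ^ n = 1 → P g) (R6 : ∀ g : Spor.Fi24', g ^ 3 = 1 → P g)
    (R7 : ∀ g : Spor.Fi24', orderOf g = 9 → Nat.card (centralizer ({g} : Set Spor.Fi24')) ≤ T)
    (R5 : ∀ z s : Spor.Fi24', z ≠ 1 → z * z = 1 → orderOf s = 3 → Commute z s → ¬ Bad s →
      Nat.card (centralizer ({z} : Set Spor.Fi24') ⊓ centralizer ({s} : Set Spor.Fi24') : Subgroup Spor.Fi24') ≤ T)
    (R4 : ∀ (s t : Spor.Fi24') (n : ℕ), orderOf s = 3 → Bad s → t ^ 2 ^ n = 1 → Commute s t →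
      P (s * t)) (g : Spor.Fi24') : P g := by
  have := Cfsg.Agent.H48.OreFi.finite'
  have hn : orderOf g ≠ 0 := (orderOf_pos g).ne'
  by_cases hr : ∃ r, r.Prime ∧ 5 ≤ r ∧ r ∣ orderOf g
  · obtain ⟨r, hr, h5, k, hk⟩ := hr
    have hk0 : k ≠ 0 := by
      rintro rfl
      exact hn (by rw [hk, mul_zero])
    refine hS g ((Cfsg.Agent.H48.OreFi.cent_pow_le g k).trans
      ((Cfsg.Agent.H48.OreFi.big_prime hr h5 ?_).trans hT))
    rw [orderOf_pow' g hk0, hk, Nat.gcd_eq_right (dvd_mul_left k r), Nat.mul_div_cancel _ (Nat.pos_of_ne_zero hk0)]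
  push Not at hr
  by_cases h9 : 9 ∣ orderOf g
  · obtain ⟨k, hk⟩ := h9
    have hk0 : k ≠ 0 := by
      rintro rfl
      exact hn (by rw [hk, mul_zero])
    refine hS g ((Cfsg.Agent.H48.OreFi.cent_pow_le g k).trans (R7 _ ?_))
    rw [orderOf_pow' g hk0, hk, Nat.gcd_eq_right (dvd_mul_left k 9), Nat.mul_div_cancel _ (Nat.pos_of_ne_zero hk0)]
  rcases Cfsg.Agent.H48.OreFi.two_three' hn hr with ⟨a, ha⟩ | h | ⟨b, hb, hk⟩ | h6
  · exact R2 g a (by rw [← ha, pow_orderOf_eq_one])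
  · exact R6 g (by rw [← h, pow_orderOf_eq_one])
  · exact absurd (by rw [hk]; exact pow_dvd_pow 3 hb) h9
  -- the order is `3 * 2 ^ a`
  obtain ⟨a, m, hm, hnm⟩ := Nat.exists_eq_pow_mul_and_not_dvd hn 2 (by norm_num)
  have h3m : 3 ∣ m := by
    have h1 : 3 ∣ 2 ^ a * m := by rw [← hnm]; exact (by norm_num : 3 ∣ 6).trans h6
    exact (Nat.Coprime.dvd_mul_left (Nat.Coprime.pow_right a (by norm_num))).1 h1
  have hm3 : m = 3 := by
    obtain ⟨q, rfl⟩ := h3m
    have hq : q = 1 := by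
      by_contra hq1
      obtain ⟨r, hrp, hrq⟩ := Nat.exists_prime_and_dvd hq1
      have hrn : r ∣ orderOf g := by rw [hnm]; exact (hrq.trans (dvd_mul_left q 3)).trans (dvd_mul_left _ _)
      have hr5 : r < 5 := by
        by_contra hcon
        exact hr r hrp (by omega) hrn
      have h23 : r = 2 ∨ r = 3 := by
        have := hrp.two_le
        interval_cases r
        · left; rfl
        · right; rfl
        · exact absurd hrp (by norm_num)
      rcases h23 with rfl | rfl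
      · exact hm (hrq.trans (dvd_mul_left q 3))
      · apply h9
        rw [hnm]
        obtain ⟨c, rfl⟩ := hrq
        exact ⟨2 ^ a * c, by ring⟩
    rw [hq]
  rw [hm3] at hnm
  -- the parts
  have ha1 : 1 ≤ a := by
    by_contra h0
    have h1 : a = 0 := by omega
    rw [h1] at hnm
    rw [hnm] at h6
    omega
  obtain ⟨u, hu⟩ : ∃ u : ℕ, 2 ^ a * u ≡ 1 [MOD 3] := by
    have h1 : Nat.Coprime (2 ^ a) 3 := Nat.Coprime.pow_left a (by norm_num)
    obtain ⟨u, -, hu⟩ := Nat.exists_mul_mod_eq_one_of_coprime h1 (by norm_num)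
    exact ⟨u, by rw [Nat.ModEq, hu]⟩
  have hu3 : ¬ 3 ∣ u := by
    intro h
    have h1 : 2 ^ a * u ≡ 0 [MOD 3] := (Nat.modEq_zero_iff_dvd).2 (h.mul_left _)
    have h2 := h1.symm.trans hu
    exact absurd h2 (by decide)
  set s := g ^ (2 ^ a * u) with hs
  have hs3 : s ^ 3 = 1 := by
    rw [hs, ← pow_mul, show 2 ^ a * u * 3 = (2 ^ a * 3) * u by ring, pow_mul, ← hnm, pow_orderOf_eq_one, one_pow]
  have hs1 : s ≠ 1 := by
    intro h
    have h1 : orderOf g ∣ 2 ^ a * u := orderOf_dvd_of_pow_eq_one h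
    rw [hnm] at h1
    exact hu3 (Nat.dvd_of_mul_dvd_mul_left (by positivity) h1)
  have hso : orderOf s = 3 := by
    have : Fact (Nat.Prime 3) := ⟨Nat.prime_three⟩
    exact orderOf_eq_prime hs3 hs1
  have hcs : Commute s g := by rw [hs]; exact (Commute.refl g).pow_left _
  by_cases hc : Bad s
  · have ht : (s⁻¹ * g) ^ 2 ^ a = 1 := by
      rw [hcs.inv_left.mul_pow, inv_pow, hs, ← pow_mul]
      have h1 : g ^ (2 ^ a * u * 2 ^ a) = g ^ 2 ^ a := by
        rw [pow_eq_pow_iff_modEq, hnm]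
        have h2 : 2 ^ a * (2 ^ a * u) ≡ 2 ^ a * 1 [MOD 2 ^ a * 3] := hu.mul_left' _
        rw [mul_one] at h2
        rwa [show 2 ^ a * u * 2 ^ a = 2 ^ a * (2 ^ a * u) by ring]
      rw [h1, inv_mul_cancel]
    have h2 := R4 s (s⁻¹ * g) a hso hc ht ((Commute.refl s).inv_right.mul_right hcs)
    rwa [mul_inv_cancel_left] at h2
  · have hzo : orderOf (g ^ (3 * 2 ^ (a - 1))) = 2 := by
      have h2 : orderOf g = 2 * (3 * 2 ^ (a - 1)) := by
        rw [hnm]
        obtain ⟨b, rfl⟩ : ∃ b, a = b + 1 := ⟨a - 1, by omega⟩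
        rw [Nat.add_sub_cancel]
        ring
      have h3 : 3 * 2 ^ (a - 1) ≠ 0 := by positivity
      rw [orderOf_pow' g h3, Nat.gcd_eq_right ⟨2, by rw [h2]; ring⟩, h2, Nat.mul_div_cancel _ (Nat.pos_of_ne_zero h3)]
    refine hS g (le_trans (Subgroup.card_le_of_le (K := centralizer ({g ^ (3 * 2 ^ (a - 1))} : Set Spor.Fi24') ⊓
        centralizer ({s} : Set Spor.Fi24')) ?_) (R5 (g ^ (3 * 2 ^ (a - 1))) s ?_ ?_ hso ?_ hc))
    · intro y hy
      rw [mem_centralizer_singleton_iff] at hy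
      refine ⟨mem_centralizer_singleton_iff.2 (Commute.pow_right (show Commute y g from hy) _).eq,
        mem_centralizer_singleton_iff.2 ?_⟩
      rw [hs]
      exact (Commute.pow_right (show Commute y g from hy) _).eq
    · intro h
      rw [h, orderOf_one] at hzo
      omega
    · have h2 := pow_orderOf_eq_one (g ^ (3 * 2 ^ (a - 1)))
      rwa [hzo, pow_two] at h2
    · exact (hcs.pow_right _).symm

/-- the classes `3A`, `3C` are bad -/
theorem cases3 {P : Spor.Fi24' → Prop} {T : ℕ} (hT : 1814400 ≤ T)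
    (hS : ∀ g : Spor.Fi24', Nat.card (centralizer ({g} : Set Spor.Fi24')) ≤ T → P g)
    (R2 : ∀ (g : Spor.Fi24') (n : ℕ), g ^ 2 ^ n = 1 → P g) (R6 : ∀ g : Spor.Fi24', g ^ 3 = 1 → P g)
    (R7 : ∀ g : Spor.Fi24', orderOf g = 9 → Nat.card (centralizer ({g} : Set Spor.Fi24')) ≤ T)
    (R5 : ∀ z s : Spor.Fi24', z ≠ 1 → z * z = 1 → orderOf s = 3 → Commute z s → ¬ Cls 0 s → ¬ Cls 1 s →
      Nat.card (centralizer ({z} : Set Spor.Fi24') ⊓ centralizer ({s} : Set Spor.Fi24') : Subgroup Spor.Fi24') ≤ T)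
    (R4 : ∀ (s t : Spor.Fi24') (n : ℕ), orderOf s = 3 → (Cls 0 s ∨ Cls 1 s) → t ^ 2 ^ n = 1 → Commute s t →
      P (s * t)) (g : Spor.Fi24') : P g :=
  casesBad (Bad := fun s => Cls 0 s ∨ Cls 1 s) hT hS R2 R6 R7
    (fun z s h1 h2 h3 h4 h => R5 z s h1 h2 h3 h4 (fun h' => h (Or.inl h')) fun h' => h (Or.inr h')) R4 g

end Cfsg.Agent.H611.QF
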