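import Cfsg.Agent.H611.QF.Frame
import Cfsg.Agent.H611.QF.Sieve
import Cfsg.Agent.H26.Ore.Fi24Deg

/-!
# The row `Fi24'` of S2491, S2492 from its pieces (helper611)

* `all_good` : every element of `Fi24'` is good in a perfect central extension with kernel of order 3, from the degree
  bounds of `L` (`45747` for the residues `± 1`, `201825` for `± 14` modulo 29) and the pieces R2, R4, R5, R6, R7;
* `rowA` : the row.
-/

set_option autoImplicit false
set_option maxRecDepth 100000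

namespace Cfsg.Agent.H611.QF

open Cfsg Subgroup Cfsg.Agent.H51.Mult Cfsg.Agent.H777.Ore Cfsg.Agent.H265.TF
open Cfsg.Agent.H52.ThreeFi24

universe u

theorem degK : DegK 57477 125120 := ⟨Cfsg.Agent.H26.Ore.Fi24Deg.hDN, Cfsg.Agent.H26.Ore.Fi24Deg.hDX⟩

/-- **every element of `Fi24'` is good** -/
theorem all_good {L : Type u} [Group L] [Finite L] {π : L →* Spor.Fi24'} (hs : Function.Surjective π)
    (hc : π.ker ≤ center L) (hk : Nat.card π.ker = 3) (hL : DegL π 45747 201825)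
    (R2 : ∀ (g : Spor.Fi24') (n : ℕ), g ^ 2 ^ n = 1 → Good π g) (R6 : ∀ g : Spor.Fi24', g ^ 3 = 1 → Good π g)
    (R7 : ∀ g : Spor.Fi24', orderOf g = 9 → Nat.card (centralizer ({g} : Set Spor.Fi24')) ≤ 11000000)
    (R5 : ∀ z s : Spor.Fi24', z ≠ 1 → z * z = 1 → orderOf s = 3 → Commute z s → ¬ Cls 0 s → ¬ Cls 1 s → ¬ Cls 4 s →
      Nat.card (centralizer ({z} : Set Spor.Fi24') ⊓ centralizer ({s} : Set Spor.Fi24') : Subgroup Spor.Fi24') ≤
        11000000)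
    (R4 : ∀ (s t : Spor.Fi24') (n : ℕ), orderOf s = 3 → (Cls 0 s ∨ Cls 1 s ∨ Cls 4 s) → t ^ 2 ^ n = 1 → Commute s t →
      Good π (s * t)) (k : Spor.Fi24') : Good π k :=
  cases (P := Good π) (by norm_num) (fun _ hg => good_of_cent hs hc hk degK hL hg) R2 R6 R7 R5 R4 k

/-- **the row `Fi24'`** -/
theorem rowA (hL : DegL π3 45747 201825)
    (R2 : ∀ (g : Spor.Fi24') (n : ℕ), g ^ 2 ^ n = 1 → Good π3 g) (R6 : ∀ g : Spor.Fi24', g ^ 3 = 1 → Good π3 g)
    (R7 : ∀ g : Spor.Fi24', orderOf g = 9 → Nat.card (centralizer ({g} : Set Spor.Fi24')) ≤ 11000000)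
    (R5 : ∀ z s : Spor.Fi24', z ≠ 1 → z * z = 1 → orderOf s = 3 → Commute z s → ¬ Cls 0 s → ¬ Cls 1 s → ¬ Cls 4 s →
      Nat.card (centralizer ({z} : Set Spor.Fi24') ⊓ centralizer ({s} : Set Spor.Fi24') : Subgroup Spor.Fi24') ≤
        11000000)
    (R4 : ∀ (s t : Spor.Fi24') (n : ℕ), orderOf s = 3 → (Cls 0 s ∨ Cls 1 s ∨ Cls 4 s) → t ^ 2 ^ n = 1 → Commute s t →
      Good π3 (s * t)) : H6.QO.RowA Spor.Fi24' :=
  rowA_of (all_good pce.surj pce.cen card_ker_L3 hL R2 R6 R7 R5 R4)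

end Cfsg.Agent.H611.QF
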