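import Cfsg.Agent.H611.QF.RowB
import Cfsg.Agent.H611.QF.FrameB
import Cfsg.Agent.H610.TF.DegL
import Cfsg.Agent.H265.TF.Two
import Cfsg.Agent.H29.TF.TwoA
import Cfsg.Agent.H180.R7.Nine

/-!
# The row `Fi24'` of S2491, S2492: everything but the class `3C` times a 2-element (helper611)

* `rowC` : the row from the class `3C` times a 2-element; `rowC_iso` : the same for every group isomorphic to `Fi24'`.
-/

set_option autoImplicit false
set_option maxRecDepth 100000

namespace Cfsg.Agent.H611.QF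

open Cfsg Subgroup Cfsg.Agent.H51.Mult Cfsg.Agent.H777.Ore Cfsg.Agent.H265.TF
open Cfsg.Agent.H52.ThreeFi24
open Cfsg.Agent.H827.Coco (AA)
open Cfsg.Spor (Fi24)

universe u

/-- small centralizers -/
theorem good_small {g : Spor.Fi24'} (hg : Nat.card (centralizer ({g} : Set Spor.Fi24')) ≤ 14500000) : Good π3 g :=
  good_of_cent' pce.surj pce.cen card_ker_L3 degK Cfsg.Agent.H610.TF.degL hg

/-- **every element of `Fi24'` is good, given the class `3C` times a 2-element** -/
theorem all_good_of (hOne : ∀ (s t : Spor.Fi24') (n : ℕ), orderOf s = 3 → Cls 1 s → t ^ 2 ^ n = 1 → Commute s t →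
      Good π3 (s * t)) (k : Spor.Fi24') : Good π3 k := by
  have h5 : ∀ z s : Spor.Fi24', z ≠ 1 → z * z = 1 → orderOf s = 3 → Commute z s → ¬ Cls 0 s → ¬ Cls 1 s →
      Nat.card (centralizer ({z} : Set Spor.Fi24') ⊓ centralizer ({s} : Set Spor.Fi24') : Subgroup Spor.Fi24') ≤
        14500000 := fun z s h1 h2 h3 h4 h0 h1' => (Cfsg.Agent.H29.TF.r5 z s h1 h2 h3 h4 h0 h1').trans (by norm_num)
  exact cases3 (P := Good π3) (by norm_num) (fun _ hg => good_small hg) (fun _ _ h => two h) (fun _ h => six h)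
    (fun _ hg => (Cfsg.Agent.H180.R7.r7 hg).trans (by norm_num)) h5
    (fun s t n ho hc ht hst => hc.elim (fun h => good_zero h ht hst) fun h => hOne s t n ho h ht hst) k

theorem rowC (hOne : ∀ (s t : Spor.Fi24') (n : ℕ), orderOf s = 3 → Cls 1 s → t ^ 2 ^ n = 1 → Commute s t →
      Good π3 (s * t)) : H6.QO.RowA Spor.Fi24' :=
  rowA_of (all_good_of hOne)

/-- **the row from the containment** (`H265.TF.good_into`) -/
theorem rowC_into (hOne : ∀ (s t : Spor.Fi24') (n : ℕ), orderOf s = 3 → Cls 1 s → t ^ 2 ^ n = 1 → Commute s t →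
      ∃ g : Spor.Fi24', g * (s * t) * g⁻¹ ∈ normalizer (AA : Set Spor.Fi24')) : H6.QO.RowA Spor.Fi24' := by
  refine rowC (fun s t n ho hc ht hst => ?_)
  obtain ⟨g, hg⟩ := hOne s t n ho hc ht hst
  exact good_into (by rw [← ho, pow_orderOf_eq_one]) ht hst hg

theorem rowC_iso (hOne : ∀ (s t : Spor.Fi24') (n : ℕ), orderOf s = 3 → Cls 1 s → t ^ 2 ^ n = 1 → Commute s t →
      Good π3 (s * t)) {K : Type u} [Group K] (h : Spor.IsoFi24' K) : H6.QO.RowA K := by
  obtain ⟨e⟩ := h
  exact (rowC hOne).congr e.symm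

end Cfsg.Agent.H611.QF
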